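import Mathlib
import Groth.Prelude.Def_SheafNL

/-! helper7: the naive cotangent complex of a presentation is unchanged (up to iso of complexes) when the base ring is localized (S7225); general lemmas: iso of two-term complexes from component isos, bijectivity of `Cotangent.map` along a localization. -/

set_option linter.style.haveILetI false
set_option linter.unusedVariables false
set_option linter.unusedSectionVars false

open CategoryTheory CategoryTheory.Limits TensorProduct

namespace Groth.Agent.Helper7.NLLoc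

universe u

section Double

variable {C : Type*} [Category C] [HasZeroMorphisms C] [HasZeroObject C]
  {X₀ X₁ : C} (f : X₀ ⟶ X₁) {ι : Type*} {c : ComplexShape ι}
  {i₀ i₁ : ι} (hi₀₁ : c.Rel i₀ i₁) (h : i₀ ≠ i₁)

/-- A map out of a two-term complex into a complex concentrated in the same two degrees is an
isomorphism as soon as its two components are. -/
theorem isIso_mkHomFromDouble {K : HomologicalComplex C c}
    (hK : ∀ k, k ≠ i₀ → k ≠ i₁ → IsZero (K.X k))
    (φ₀ : X₀ ⟶ K.X i₀) (φ₁ : X₁ ⟶ K.X i₁) [IsIso φ₀] [IsIso φ₁]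
    (comm : φ₀ ≫ K.d i₀ i₁ = f ≫ φ₁) (hφ : ∀ (k : ι), c.Rel i₁ k → φ₁ ≫ K.d i₁ k = 0) :
    IsIso (HomologicalComplex.mkHomFromDouble hi₀₁ h φ₀ φ₁ comm hφ) := by
  haveI : ∀ n : ι, IsIso ((HomologicalComplex.mkHomFromDouble hi₀₁ h φ₀ φ₁ comm hφ).f n) := by
    intro n
    by_cases h0 : n = i₀
    · subst h0
      rw [HomologicalComplex.mkHomFromDouble_f₀]
      infer_instance
    · by_cases h1 : n = i₁
      · subst h1
        rw [HomologicalComplex.mkHomFromDouble_f₁]
        infer_instance
      · exact IsZero.isIso (HomologicalComplex.isZero_double_X f hi₀₁ n h0 h1) (hK n h0 h1) _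
  exact HomologicalComplex.Hom.isIso_of_components _

end Double

section Cot

open Algebra.Extension

variable {R S R' : Type*} [CommRing R] [CommRing S] [Algebra R S] [CommRing R'] [Algebra R' S]
  [Algebra R R'] [IsScalarTower R R' S]
  {P : Algebra.Extension R S} {P' : Algebra.Extension R' S} (f : P.Hom P')
  (N : Submonoid P.Ring)
  (h1 : ∀ y : P'.Ring, ∃ n ∈ N, ∃ x : P.Ring, f.toRingHom n * y = f.toRingHom x)
  (h2 : ∀ x : P.Ring, f.toRingHom x = 0 → ∃ n ∈ N, n * x = 0)
  (h3 : ∀ n ∈ N, IsUnit (algebraMap P.Ring S n))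

theorem algebraMap_toRingHom' (x : P.Ring) :
    algebraMap P'.Ring S (f.toRingHom x) = algebraMap P.Ring S x := by
  rw [f.algebraMap_toRingHom x]
  rfl

include h3 in
theorem mem_ker_of_mul_eq {n : P.Ring} (hn : n ∈ N) {y : P'.Ring} (hy : y ∈ P'.ker) {x : P.Ring}
    (hx : f.toRingHom n * y = f.toRingHom x) : x ∈ P.ker := by
  have hy' : algebraMap P'.Ring S y = 0 := hy
  change algebraMap P.Ring S x = 0
  rw [← algebraMap_toRingHom' f, ← hx, map_mul, hy', mul_zero]

include h3 in
theorem smul_cotangent_eq_zero {n : P.Ring} (hn : n ∈ N) (c : P.Cotangent) (hc : n • c = 0) :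
    c = 0 := by
  obtain ⟨u, hu⟩ := h3 n hn
  have : (algebraMap P.Ring S n) • c = 0 := by rw [algebraMap_smul]; exact hc
  rw [← hu] at this
  have h2 : ((u⁻¹ : Sˣ) : S) • ((u : S) • c) = 0 := by rw [this, smul_zero]
  rwa [smul_smul, Units.inv_mul, one_smul] at h2

include h1 h3 in
theorem cotangent_map_surjective : Function.Surjective (Cotangent.map f) := by
  intro c
  obtain ⟨⟨y, hy⟩, rfl⟩ := Cotangent.mk_surjective c
  obtain ⟨n, hn, x, hx⟩ := h1 y
  have hxk : x ∈ P.ker := mem_ker_of_mul_eq f N h3 hn hy hx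
  obtain ⟨u, hu⟩ := h3 n hn
  refine ⟨((u⁻¹ : Sˣ) : S) • Cotangent.mk ⟨x, hxk⟩, ?_⟩
  rw [map_smul, Cotangent.map_mk]
  have hfx : f.toRingHom x ∈ P'.ker := by
    change algebraMap P'.Ring S (f.toRingHom x) = 0
    rw [algebraMap_toRingHom' f]; exact hxk
  have e : (Cotangent.mk ⟨f.toRingHom x, hfx⟩ : P'.Cotangent) =
      (u : S) • Cotangent.mk ⟨y, hy⟩ := by
    have e1 : (u : S) = algebraMap P'.Ring S (f.toRingHom n) := by
      rw [hu, algebraMap_toRingHom' f]
    rw [e1, algebraMap_smul, ← map_smul]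
    congr 1
    ext1
    exact hx.symm
  change ((u⁻¹ : Sˣ) : S) • (Cotangent.mk ⟨f.toRingHom x, hfx⟩ : P'.Cotangent) = _
  rw [e, smul_smul, Units.inv_mul, one_smul]

include h1 h3 in
theorem exists_mul_eq_of_mem_sq (y : P'.Ring) (hy : y ∈ P'.ker ^ 2) :
    ∃ n ∈ N, ∃ z ∈ P.ker ^ 2, f.toRingHom n * y = f.toRingHom z := by
  rw [pow_two] at hy
  refine Submodule.mul_induction_on hy ?_ ?_
  · intro a ha b hb
    obtain ⟨na, hna, xa, hxa⟩ := h1 a
    obtain ⟨nb, hnb, xb, hxb⟩ := h1 b
    have hxak : xa ∈ P.ker := mem_ker_of_mul_eq f N h3 hna ha hxa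
    have hxbk : xb ∈ P.ker := mem_ker_of_mul_eq f N h3 hnb hb hxb
    refine ⟨na * nb, N.mul_mem hna hnb, xa * xb, ?_, ?_⟩
    · rw [pow_two]; exact Ideal.mul_mem_mul hxak hxbk
    · rw [map_mul, map_mul, ← hxa, ← hxb]; ring
  · intro a b ⟨na, hna, za, hza, ea⟩ ⟨nb, hnb, zb, hzb, eb⟩
    refine ⟨na * nb, N.mul_mem hna hnb, nb * za + na * zb, ?_, ?_⟩
    · exact Ideal.add_mem _ (Ideal.mul_mem_left _ _ hza) (Ideal.mul_mem_left _ _ hzb)
    · rw [map_mul, map_add, map_mul, map_mul, ← ea, ← eb]; ring

include h1 h2 h3 in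
theorem cotangent_map_injective : Function.Injective (Cotangent.map f) := by
  rw [injective_iff_map_eq_zero]
  intro c hc
  obtain ⟨⟨x, hxk⟩, rfl⟩ := Cotangent.mk_surjective c
  rw [Cotangent.map_mk, Cotangent.mk_eq_zero_iff] at hc
  have hc' : f.toRingHom x ∈ P'.ker ^ 2 := hc
  obtain ⟨n, hn, z, hz, e⟩ := exists_mul_eq_of_mem_sq f N h1 h3 _ hc'
  have e2 : f.toRingHom (n * x - z) = 0 := by rw [map_sub, map_mul, e, sub_self]
  obtain ⟨n', hn', e3⟩ := h2 _ e2
  have hmem : (n' * n) * x ∈ P.ker ^ 2 := by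
    have : (n' * n) * x = n' * z := by
      have : n' * (n * x - z) = 0 := e3
      linear_combination this
    rw [this]
    exact Ideal.mul_mem_left _ _ hz
  apply smul_cotangent_eq_zero N h3 (N.mul_mem hn' hn)
  rw [← map_smul, Cotangent.mk_eq_zero_iff]
  exact hmem

end Cot

section Main

open Algebra.Extension

variable (A A' B : Type u) [CommRing A] [CommRing A'] [CommRing B]
  [Algebra A A'] (M : Submonoid A) [IsLocalization M A'] [Algebra A' B] [Algebra A B]
  [IsScalarTower A A' B]
  {ι : Type u} (G : Algebra.Generators A B ι) (G' : Algebra.Generators A' B ι)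
  (h : ∀ i, G'.val i = algebraMap B B (G.val i))

theorem toRingHom_eq_map (x : MvPolynomial ι A) :
    (NLCx.sameVarsHom (S' := B) G G' h).toExtensionHom.toRingHom x =
      MvPolynomial.map (algebraMap A A') x := by
  change MvPolynomial.aeval (fun i => (MvPolynomial.X i : MvPolynomial ι A')) x = _
  induction x using MvPolynomial.induction_on with
  | C a =>
    rw [MvPolynomial.aeval_C, MvPolynomial.map_C,
      IsScalarTower.algebraMap_apply A A' (MvPolynomial ι A'), MvPolynomial.algebraMap_eq]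
  | add p q hp hq => rw [map_add, map_add, hp, hq]
  | mul_X p i hp => rw [map_mul, map_mul, hp, MvPolynomial.aeval_X, MvPolynomial.map_X]

/-- The ring map underlying `sameVarsHom`, on plain polynomial rings. -/
noncomputable def phi : MvPolynomial ι A →+* MvPolynomial ι A' :=
  (NLCx.sameVarsHom (S' := B) G G' h).toExtensionHom.toRingHom

theorem phi_eq_map (x : MvPolynomial ι A) :
    phi A A' B G G' h x = MvPolynomial.map (algebraMap A A') x := toRingHom_eq_map A A' B G G' h x

attribute [local instance] MvPolynomial.algebraMvPolynomial in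
include M in
theorem cotangent_bijective :
    Function.Bijective (Cotangent.map (NLCx.sameVarsHom (S' := B) G G' h).toExtensionHom) := by
  have hloc : IsLocalization (M.map (MvPolynomial.C (σ := ι))) (MvPolynomial ι A') :=
    MvPolynomial.isLocalization M A'
  have hh1 : ∀ y : MvPolynomial ι A', ∃ n ∈ (M.map (MvPolynomial.C (σ := ι))),
      ∃ x : MvPolynomial ι A, phi A A' B G G' h n * y = phi A A' B G G' h x := by
    intro y
    obtain ⟨⟨x, n⟩, e⟩ := IsLocalization.surj (M.map (MvPolynomial.C (σ := ι))) y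
    refine ⟨n.1, n.2, x, ?_⟩
    rw [phi_eq_map, phi_eq_map, mul_comm]
    exact e
  have hh2 : ∀ x : MvPolynomial ι A, phi A A' B G G' h x = 0 →
      ∃ n ∈ (M.map (MvPolynomial.C (σ := ι))), n * x = 0 := by
    intro x hx
    rw [phi_eq_map] at hx
    obtain ⟨m, hm⟩ := (IsLocalization.map_eq_zero_iff (M.map (MvPolynomial.C (σ := ι)))
      (MvPolynomial ι A') x).mp hx
    exact ⟨m.1, m.2, hm⟩
  have hh3 : ∀ n ∈ (M.map (MvPolynomial.C (σ := ι))),
      IsUnit (algebraMap G.Ring B n) := by
    rintro _ ⟨m, hm, rfl⟩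
    have : algebraMap G.Ring B (MvPolynomial.C m) =
        algebraMap A' B (algebraMap A A' m) := by
      rw [← IsScalarTower.algebraMap_apply, Algebra.Generators.algebraMap_apply,
        MvPolynomial.aeval_C]
    rw [this]
    exact (IsLocalization.map_units A' (⟨m, hm⟩ : M)).map _
  exact ⟨cotangent_map_injective (P := G.toExtension) (P' := G'.toExtension) _
      (M.map (MvPolynomial.C (σ := ι))) hh1 hh2 hh3,
    cotangent_map_surjective (P := G.toExtension) (P' := G'.toExtension) _
      (M.map (MvPolynomial.C (σ := ι))) hh1 hh3⟩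

theorem cotangentSpace_bijective :
    Function.Bijective
      (CotangentSpace.map (NLCx.sameVarsHom (S' := B) G G' h).toExtensionHom) := by
  have e : CotangentSpace.map (NLCx.sameVarsHom (S' := B) G G' h).toExtensionHom =
      (G.cotangentSpaceBasis.equiv G'.cotangentSpaceBasis (Equiv.refl ι)).toLinearMap := by
    refine G.cotangentSpaceBasis.ext (fun i => ?_)
    rw [LinearEquiv.coe_coe, Module.Basis.equiv_apply, Equiv.refl_apply,
      Algebra.Generators.cotangentSpaceBasis_apply, Algebra.Generators.cotangentSpaceBasis_apply]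
    refine (CotangentSpace.map_tmul _ _ _).trans ?_
    rw [map_one]
    have e2 : (NLCx.sameVarsHom (S' := B) G G' h).toExtensionHom.toAlgHom
        (MvPolynomial.X i : MvPolynomial ι A) = (MvPolynomial.X i : MvPolynomial ι A') := by
      rw [Algebra.Extension.Hom.toAlgHom_apply]
      exact (toRingHom_eq_map A A' B G G' h _).trans (MvPolynomial.map_X _ _)
    rw [e2]
    rfl
  rw [e]
  exact LinearEquiv.bijective _

include M in
theorem main : IsIso (NLCx.map (NLCx.sameVarsHom (S' := B) G G' h).toExtensionHom) := by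
  haveI i0 : IsIso (ModuleCat.ofHom
      (Cotangent.map (NLCx.sameVarsHom (S' := B) G G' h).toExtensionHom)) :=
    (ConcreteCategory.isIso_iff_bijective _).mpr (cotangent_bijective A A' B M G G' h)
  haveI i1 : IsIso (ModuleCat.ofHom
      (CotangentSpace.map (NLCx.sameVarsHom (S' := B) G G' h).toExtensionHom)) :=
    (ConcreteCategory.isIso_iff_bijective _).mpr (cotangentSpace_bijective A A' B G G' h)
  unfold NLCx.map
  refine isIso_mkHomFromDouble _ _ _ ?_ _ _ _ _
  intro k h0 h1
  exact HomologicalComplex.isZero_double_X _ _ k h0 h1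

end Main

end Groth.Agent.Helper7.NLLoc
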